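import Cfsg.Agent.H741.Lb.Defs
import Cfsg.Agent.H319.One.Base

/-!
# S4879, row `F₄(q)`, `p = 7`: the inertial index of the centralizers is `3` (helper530)

`abs_three` : `V` elementary abelian of order 49, `E ≤ MulAut V` a `7'`-group, transitive on `V - 1`; an element of `E`
fixes `x ≠ 1` and acts with order 3 on `⟨y⟩`: then all stabilizers have order 3 (the orders 6 being excluded by the
hypothesis `NoSix`).
`relIndex_three` : `|N(P) ∩ C(x) : C(P)| = 3`.
-/

set_option autoImplicit false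
set_option linter.unusedSectionVars false

open Subgroup

namespace Cfsg.Agent.H530.LB

universe u

/-- the statement of helper137's `no_six` -/
def NoSix : Prop :=
  ∀ (V : Type u) [CommGroup V] [Finite V] (_ : Nat.card V = 49) (_ : ∀ v : V, v ^ 7 = 1) (E : Subgroup (MulAut V))
    (_ : ¬ 7 ∣ Nat.card E)
    (_ : ∀ v : V, v ≠ 1 → ∃ a ∈ E, a v = v ∧ ∀ w, a w * (w ^ 3)⁻¹ ∈ zpowers v), False

section abs

variable {V : Type u} [CommGroup V] [Finite V] (E : Subgroup (MulAut V)) (x : V)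

/-- the stabilizer of `x` in `E` -/
def stE : Subgroup (MulAut V) where
  carrier := {a | a ∈ E ∧ a x = x}
  one_mem' := ⟨E.one_mem, rfl⟩
  mul_mem' := fun {a b} ha hb => ⟨E.mul_mem ha.1 hb.1, by rw [MulAut.mul_apply, hb.2, ha.2]⟩
  inv_mem' := fun {a} ha => ⟨E.inv_mem ha.1, by
    have h1 : a⁻¹ (a x) = x := MulAut.inv_apply_self V a x
    rwa [ha.2] at h1⟩

variable {E x}

theorem mem_stE {a : MulAut V} : a ∈ stE E x ↔ a ∈ E ∧ a x = x := Iff.rfl

theorem map_zp {a : MulAut V} (ha : a x = x) : (zpowers x).map (a : V →* V) = zpowers x := by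
  rw [MonoidHom.map_zpowers]
  congr 1

/-- the action on `V / ⟨x⟩` -/
noncomputable def psi (E : Subgroup (MulAut V)) (x : V) : stE E x →* MulAut (V ⧸ zpowers x) where
  toFun a := QuotientGroup.congr (zpowers x) (zpowers x) (a : MulAut V) (map_zp a.2.2)
  map_one' := by
    ext w
    induction w using QuotientGroup.induction_on with | _ w => rfl
  map_mul' a b := by
    ext w
    induction w using QuotientGroup.induction_on with | _ w => rfl

theorem psi_mk (a : stE E x) (w : V) : psi E x a (QuotientGroup.mk w) = QuotientGroup.mk ((a : MulAut V) w) := rfl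

theorem fix_zp {a : MulAut V} (ha : a x = x) {w : V} (hw : w ∈ zpowers x) : a w = w := by
  obtain ⟨i, rfl⟩ := mem_zpowers_iff.1 hw
  rw [map_zpow, ha]

theorem psi_inj (h7 : ∀ v : V, v ^ 7 = 1) (hE : ¬ 7 ∣ Nat.card E) : Function.Injective (psi E x) := by
  rw [injective_iff_map_eq_one]
  intro a ha
  have h1 : ∀ w : V, (a : MulAut V) w * w⁻¹ ∈ zpowers x := by
    intro w
    have h2 := congrArg (fun f => f (QuotientGroup.mk w)) ha
    have h3 : (QuotientGroup.mk ((a : MulAut V) w) : V ⧸ zpowers x) = QuotientGroup.mk w := h2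
    have h4 := QuotientGroup.eq.1 h3.symm
    rwa [mul_comm] at h4
  have h2 : ∀ (n : ℕ) (w : V), ((a : MulAut V) ^ n) w = w * ((a : MulAut V) w * w⁻¹) ^ n := by
    intro n w
    induction n with
    | zero => rw [pow_zero, pow_zero, mul_one]; rfl
    | succ n ih =>
      rw [pow_succ', MulAut.mul_apply, ih, map_mul, map_pow, fix_zp a.2.2 (h1 w)]
      have h3 : (a : MulAut V) w = w * ((a : MulAut V) w * w⁻¹) := by
        rw [mul_comm _ w⁻¹, mul_inv_cancel_left]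
      nth_rewrite 1 [h3]
      rw [pow_succ', mul_assoc]
  have h3 : (a : MulAut V) ^ 7 = 1 := by
    ext w
    rw [h2, h7, mul_one]
    rfl
  have h4 : a ^ 7 = 1 := Subtype.ext h3
  have h5 : orderOf a ∣ 7 := orderOf_dvd_of_pow_eq_one h4
  have hle : stE E x ≤ E := fun b hb => hb.1
  have h6 : orderOf a ∣ Nat.card E := (orderOf_dvd_natCard a).trans (Subgroup.card_dvd_of_le hle)
  rcases (Nat.dvd_prime (by norm_num)).1 h5 with h7' | h7'
  · exact orderOf_eq_one_iff.1 h7'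
  · rw [h7'] at h6
    exact absurd h6 hE

theorem card_quot (hV : Nat.card V = 49) (h7 : ∀ v : V, v ^ 7 = 1) (hx : x ≠ 1) : Nat.card (V ⧸ zpowers x) = 7 := by
  have h1 : orderOf x = 7 := orderOf_eq_prime (p := 7) (hp := ⟨by norm_num⟩) (h7 x) hx
  have h2 := Subgroup.card_eq_card_quotient_mul_card_subgroup (zpowers x)
  rw [Nat.card_zpowers, h1, hV] at h2
  omega

theorem card_aut (hV : Nat.card V = 49) (h7 : ∀ v : V, v ^ 7 = 1) (hx : x ≠ 1) : Nat.card (MulAut (V ⧸ zpowers x)) = 6 := by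
  have h1 := card_quot hV h7 hx
  have : Fact (Nat.Prime 7) := ⟨by norm_num⟩
  have : IsCyclic (V ⧸ zpowers x) := isCyclic_of_prime_card (p := 7) h1
  rw [IsCyclic.card_mulAut, h1]
  decide

theorem card_dvd_six (hV : Nat.card V = 49) (h7 : ∀ v : V, v ^ 7 = 1) (hE : ¬ 7 ∣ Nat.card E) (hx : x ≠ 1) :
    Nat.card (stE E x) ∣ 6 := by
  rw [← card_aut hV h7 hx]
  exact Subgroup.card_dvd_of_injective (psi E x) (psi_inj h7 hE)

/-- order 6: an element acting as the cube on the quotient -/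
theorem exists_cube (hV : Nat.card V = 49) (h7 : ∀ v : V, v ^ 7 = 1) (hE : ¬ 7 ∣ Nat.card E) (hx : x ≠ 1)
    (h6 : Nat.card (stE E x) = 6) : ∃ a ∈ E, a x = x ∧ ∀ w, a w * (w ^ 3)⁻¹ ∈ zpowers x := by
  have hc := card_quot hV h7 hx
  have : Finite (MulAut (V ⧸ zpowers x)) := Nat.finite_of_card_ne_zero (by rw [card_aut hV h7 hx]; norm_num)
  have hbij : Function.Bijective (psi E x) :=
    (Nat.bijective_iff_injective_and_card _).2 ⟨psi_inj h7 hE, by rw [h6, card_aut hV h7 hx]⟩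
  have hcop : (Nat.card (V ⧸ zpowers x)).Coprime 3 := by rw [hc]; norm_num
  let θ : MulAut (V ⧸ zpowers x) := MulEquiv.ofBijective (powMonoidHom 3) (powCoprime hcop).bijective
  obtain ⟨a, ha⟩ := hbij.2 θ
  refine ⟨a, a.2.1, a.2.2, fun w => ?_⟩
  have h1 : (QuotientGroup.mk ((a : MulAut V) w) : V ⧸ zpowers x) = QuotientGroup.mk (w ^ 3) := by
    rw [← psi_mk, ha]
    rfl
  have h2 := QuotientGroup.eq.1 h1.symm
  rwa [mul_comm] at h2

/-- an element of order 3 -/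
theorem three_dvd (hV : Nat.card V = 49) (h7 : ∀ v : V, v ^ 7 = 1) (hx : x ≠ 1) {a : MulAut V} (haE : a ∈ E)
    (hax : a x = x) {y : V} (hy : y ∉ zpowers x) {k : ℕ} (hay : a y = y ^ k) (hk : orderOf (k : ZMod 7) = 3) :
    3 ∣ Nat.card (stE E x) := by
  have : Fact (Nat.Prime 7) := ⟨by norm_num⟩
  have hc := card_quot hV h7 hx
  set A : stE E x := ⟨a, haE, hax⟩ with hA
  set Y : V ⧸ zpowers x := QuotientGroup.mk y with hY
  have hY1 : Y ≠ 1 := fun h => hy ((QuotientGroup.eq_one_iff y).1 h)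
  have hY7 : orderOf Y = 7 := by
    have h1 : orderOf Y ∣ 7 := by rw [← hc]; exact orderOf_dvd_natCard Y
    rcases (Nat.dvd_prime (by norm_num)).1 h1 with h2 | h2
    · exact absurd (orderOf_eq_one_iff.1 h2) hY1
    · exact h2
  have h1 : ∀ n : ℕ, ((psi E x A) ^ n) Y = Y ^ (k ^ n) := by
    intro n
    induction n with
    | zero => rw [pow_zero, pow_zero, pow_one]; rfl
    | succ n ih =>
      rw [pow_succ', MulAut.mul_apply, ih, map_pow]
      have h2 : psi E x A Y = Y ^ k := by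
        rw [hY, psi_mk]
        change (QuotientGroup.mk (a y) : V ⧸ zpowers x) = _
        rw [hay]
        rfl
      rw [h2, ← pow_mul, pow_succ, mul_comm]
  have h2 : 3 ∣ orderOf A := by
    have h3 : (psi E x A) ^ orderOf A = 1 := by rw [← map_pow, pow_orderOf_eq_one, map_one]
    have h4 := h1 (orderOf A)
    rw [h3] at h4
    have h5 : Y ^ (k ^ orderOf A) = Y ^ 1 := by
      rw [pow_one, ← h4]
      rfl
    have h6 := pow_eq_pow_iff_modEq.1 h5
    rw [hY7] at h6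
    have h7' : ((k : ZMod 7)) ^ orderOf A = 1 := by
      have := (ZMod.natCast_eq_natCast_iff _ _ _).2 h6
      push_cast at this
      exact this
    rw [← hk]
    exact orderOf_dvd_of_pow_eq_one h7'
  exact h2.trans (orderOf_dvd_natCard A)

theorem mem_zp_conj {a : MulAut V} {w : V} (h : w ∈ zpowers x) : a w ∈ zpowers (a x) := by
  obtain ⟨i, rfl⟩ := mem_zpowers_iff.1 h
  exact ⟨i, (map_zpow a x i).symm⟩

/-- **all stabilizers have order 3** -/
theorem abs_three (hN : NoSix.{u}) (hV : Nat.card V = 49) (h7 : ∀ v : V, v ^ 7 = 1) (hE : ¬ 7 ∣ Nat.card E)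
    (ht : ∀ v w : V, v ≠ 1 → w ≠ 1 → ∃ a ∈ E, a v = w) {x₁ y₁ : V} {a₁ : MulAut V} (hx₁ : x₁ ≠ 1) (ha₁ : a₁ ∈ E)
    (hax₁ : a₁ x₁ = x₁) (hy₁ : y₁ ∉ zpowers x₁) {k : ℕ} (hay₁ : a₁ y₁ = y₁ ^ k) (hk : orderOf (k : ZMod 7) = 3)
    (hx : x ≠ 1) : Nat.card (stE E x) = 3 := by
  have hinv : ∀ (a : MulAut V) (w : V), a (a⁻¹ w) = w := fun a w => MulAut.apply_inv_self V a w
  have hinv' : ∀ (a : MulAut V) (w : V), a⁻¹ (a w) = w := fun a w => MulAut.inv_apply_self V a w
  have h3 : 3 ∣ Nat.card (stE E x) := by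
    obtain ⟨b, hb, hbx⟩ := ht x₁ x hx₁ hx
    have hb' : b⁻¹ x = x₁ := by rw [← hbx, hinv']
    refine three_dvd (a := b * a₁ * b⁻¹) (y := b y₁) hV h7 hx (E.mul_mem (E.mul_mem hb ha₁) (E.inv_mem hb)) ?_ ?_ ?_ hk
    · rw [MulAut.mul_apply, MulAut.mul_apply, hb', hax₁, hbx]
    · intro h
      apply hy₁
      have h2 := mem_zp_conj (a := b⁻¹) h
      rwa [hinv', hb'] at h2
    · rw [MulAut.mul_apply, MulAut.mul_apply, hinv', hay₁, map_pow]
  have h6 := card_dvd_six hV h7 hE hx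
  have hne : Nat.card (stE E x) ≠ 6 := by
    intro h
    obtain ⟨a, ha, hax, hcube⟩ := exists_cube hV h7 hE hx h
    refine hN V hV h7 E hE fun v hv => ?_
    obtain ⟨b, hb, hbx⟩ := ht x v hx hv
    have hb' : b⁻¹ v = x := by rw [← hbx, hinv']
    refine ⟨b * a * b⁻¹, E.mul_mem (E.mul_mem hb ha) (E.inv_mem hb), ?_, fun w => ?_⟩
    · rw [MulAut.mul_apply, MulAut.mul_apply, hb', hax, hbx]
    · have h2 := mem_zp_conj (a := b) (hcube (b⁻¹ w))
      rw [hbx, map_mul, map_inv, map_pow, hinv] at h2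
      exact h2
  have h7' := Nat.le_of_dvd (by norm_num) h6
  generalize Nat.card (stE E x) = c at *
  interval_cases c <;> omega

end abs

section group

variable {G : Type u} [Group G] [Finite G]

theorem rho_apply (P : Subgroup G) (n : normalizer (P : Set G)) (w : P) :
    ((P.normalizerMonoidHom n w : P) : G) = (n : G) * w * (n : G)⁻¹ := rfl

/-- **the inertial index of the centralizers is 3** -/
theorem relIndex_three (hN : NoSix.{u}) (hO : Cfsg.Agent.H741.Lb.OneC 7 G) (P : Sylow 7 G) (hP : Nat.card P = 7 ^ 2)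
    (hexp : ∀ x ∈ (P : Subgroup G), x ^ 7 = 1) (hL : Cfsg.Agent.H319.One.Loc 7 3 G) {x : G} (hx : x ∈ (P : Subgroup G))
    (hx1 : x ≠ 1) : (centralizer ((P : Subgroup G) : Set G)).relIndex
      (normalizer ((P : Subgroup G) : Set G) ⊓ centralizer ({x} : Set G)) = 3 := by
  have h7p : Fact (Nat.Prime 7) := ⟨by norm_num⟩
  have hcomm : IsMulCommutative (P : Subgroup G) := IsPGroup.isMulCommutative_of_card_eq_prime_sq hP
  have hcm : ∀ a ∈ (P : Subgroup G), ∀ b ∈ (P : Subgroup G), a * b = b * a := by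
    intro a ha b hb
    exact congrArg Subtype.val (hcomm.is_comm.comm (⟨a, ha⟩ : (P : Subgroup G)) ⟨b, hb⟩)
  set N : Subgroup G := normalizer ((P : Subgroup G) : Set G) with hNdef
  let ρ := (P : Subgroup G).normalizerMonoidHom
  have hρ : ∀ (n : N) (w : (P : Subgroup G)), ((ρ n w : (P : Subgroup G)) : G) = (n : G) * w * (n : G)⁻¹ := fun _ _ => rfl
  let E : Subgroup (MulAut (P : Subgroup G)) := ρ.range
  have h7 : ∀ v : (P : Subgroup G), v ^ 7 = 1 := fun v => Subtype.ext (hexp v v.2)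
  have hV : Nat.card (P : Subgroup G) = 49 := hP
  -- `E` is a `7'`-group
  have hE : ¬ 7 ∣ Nat.card E := by
    intro h
    have h1 : Nat.card E = (centralizer ((P : Subgroup G) : Set G)).relIndex N := by
      rw [← Subgroup.index_ker, Subgroup.normalizerMonoidHom_ker]
      rfl
    rw [h1] at h
    have h2 : (P : Subgroup G) ≤ centralizer ((P : Subgroup G) : Set G) := fun a ha =>
      mem_centralizer_iff.2 fun b hb => hcm b hb a ha
    have h3 := h.trans (Subgroup.relIndex_dvd_of_le_left N h2)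
    have h4 := h3.trans (Subgroup.relIndex_dvd_index_of_le (le_normalizer (H := (P : Subgroup G))))
    exact P.not_dvd_index h4
  -- transitivity
  have hord : ∀ v : (P : Subgroup G), v ≠ 1 → orderOf (v : G) = 7 := by
    intro v hv
    rw [Subgroup.orderOf_coe]
    exact orderOf_eq_prime (h7 v) hv
  have ht : ∀ v w : (P : Subgroup G), v ≠ 1 → w ≠ 1 → ∃ a ∈ E, a v = w := by
    intro v w hv hw
    have hv' : (v : G) ≠ 1 := fun h => hv (Subtype.ext h)
    have hw' : (w : G) ≠ 1 := fun h => hw (Subtype.ext h)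
    obtain ⟨g, hg⟩ := isConj_iff.1 (hO v w hv' hw' ⟨1, by rw [hord v hv, pow_one]⟩ ⟨1, by rw [hord w hw, pow_one]⟩)
    have h1 : g⁻¹⁻¹ * (v : G) * g⁻¹ ∈ (P : Subgroup G) := by
      rw [inv_inv, hg]
      exact w.2
    obtain ⟨n, hn, hn'⟩ := Sylow.conj_eq_normalizer_conj_of_mem P (v : G) g⁻¹ v.2 h1
    refine ⟨ρ ⟨n⁻¹, N.inv_mem hn⟩, ⟨_, rfl⟩, Subtype.ext ?_⟩
    rw [hρ]
    show n⁻¹ * (v : G) * n⁻¹⁻¹ = w
    rw [inv_inv, ← hn', inv_inv, hg]
  -- the local data
  obtain ⟨x₀, y₀, c₀, k, hx₀, hy₀, hxy, hyn, hcx, hcy, hk⟩ := hL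
  have hJ : IsPGroup 7 (zpowers x₀ ⊔ zpowers y₀ : Subgroup G) := by
    have e1 : IsPGroup 7 (zpowers x₀) := IsPGroup.of_card (n := 1) (by rw [Nat.card_zpowers, hx₀, pow_one])
    have e2 : IsPGroup 7 (zpowers y₀) := IsPGroup.of_card (n := 1) (by rw [Nat.card_zpowers, hy₀, pow_one])
    refine e1.to_sup_of_normal_right' e2 ?_
    rw [zpowers_le]
    refine centralizer_le_normalizer _ (mem_centralizer_iff.2 fun z hz => ?_)
    obtain ⟨i, rfl⟩ := mem_zpowers_iff.1 hz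
    exact ((show Commute x₀ y₀ from hxy).symm.zpow_left i).eq
  obtain ⟨Q, hQ⟩ := hJ.exists_le_sylow
  obtain ⟨g, hg⟩ := MulAction.exists_smul_eq G Q P
  have hmem : ∀ z ∈ (zpowers x₀ ⊔ zpowers y₀ : Subgroup G), g * z * g⁻¹ ∈ (P : Subgroup G) := by
    intro z hz
    rw [← hg, Sylow.coe_subgroup_smul]
    exact ⟨z, hQ hz, rfl⟩
  have hx₁P : g * x₀ * g⁻¹ ∈ (P : Subgroup G) := hmem _ (mem_sup_left (mem_zpowers x₀))
  have hy₁P : g * y₀ * g⁻¹ ∈ (P : Subgroup G) := hmem _ (mem_sup_right (mem_zpowers y₀))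
  set x₁ : (P : Subgroup G) := ⟨g * x₀ * g⁻¹, hx₁P⟩ with hx₁def
  set y₁ : (P : Subgroup G) := ⟨g * y₀ * g⁻¹, hy₁P⟩ with hy₁def
  have hx₁1 : x₁ ≠ 1 := by
    intro h
    have h1 : g * x₀ * g⁻¹ = 1 := congrArg Subtype.val h
    have h2 : x₀ = 1 := by
      have h3 : x₀ = g⁻¹ * (g * x₀ * g⁻¹) * g := by group
      rw [h3, h1]; group
    rw [h2, orderOf_one] at hx₀
    omega
  have hy₁n : y₁ ∉ zpowers x₁ := by
    intro h
    obtain ⟨i, hi⟩ := mem_zpowers_iff.1 h
    apply hyn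
    refine mem_zpowers_iff.2 ⟨i, ?_⟩
    have h1 : (g * x₀ * g⁻¹) ^ i = g * y₀ * g⁻¹ := by
      have := congrArg Subtype.val hi
      rwa [Subgroup.coe_zpow] at this
    rw [conj_zpow] at h1
    exact mul_left_cancel (mul_right_cancel h1)
  have hcx₁ : (g * c₀ * g⁻¹) * (g * x₀ * g⁻¹) * (g * c₀ * g⁻¹)⁻¹ = g * x₀ * g⁻¹ := by
    have h1 : (g * c₀ * g⁻¹) * (g * x₀ * g⁻¹) * (g * c₀ * g⁻¹)⁻¹ = g * (c₀ * x₀ * c₀⁻¹) * g⁻¹ := by group
    rw [h1, hcx, mul_inv_cancel_right]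
  have hcy₁ : (g * c₀ * g⁻¹) * (g * y₀ * g⁻¹) * (g * c₀ * g⁻¹)⁻¹ = (g * y₀ * g⁻¹) ^ k := by
    have h1 : (g * c₀ * g⁻¹) * (g * y₀ * g⁻¹) * (g * c₀ * g⁻¹)⁻¹ = g * (c₀ * y₀ * c₀⁻¹) * g⁻¹ := by group
    rw [h1, hcy, conj_pow]
  -- `P` is generated by `x₁`, `y₁`
  have htop : zpowers x₁ ⊔ zpowers y₁ = ⊤ := by
    apply Subgroup.eq_top_of_card_eq
    have h1 : Nat.card (zpowers x₁ ⊔ zpowers y₁ : Subgroup (P : Subgroup G)) ∣ 7 ^ 2 := by
      rw [← hP]
      exact Subgroup.card_subgroup_dvd_card _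
    obtain ⟨i, hi, hi'⟩ := (Nat.dvd_prime_pow (by norm_num)).1 h1
    have h2 : zpowers x₁ < zpowers x₁ ⊔ zpowers y₁ := by
      refine lt_of_le_of_ne le_sup_left fun h => hy₁n ?_
      rw [h]
      exact mem_sup_right (mem_zpowers y₁)
    have h3 : Nat.card (zpowers x₁) = 7 := by
      rw [Nat.card_zpowers]
      exact orderOf_eq_prime (h7 x₁) hx₁1
    have h4 : Nat.card (zpowers x₁) < Nat.card (zpowers x₁ ⊔ zpowers y₁ : Subgroup (P : Subgroup G)) := by
      by_contra hcon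
      exact h2.ne (Subgroup.eq_of_le_of_card_ge h2.le (not_lt.1 hcon))
    rw [hi', h3] at h4
    rw [hi', hP]
    interval_cases i <;> simp_all
  have hcN : g * c₀ * g⁻¹ ∈ N := by
    apply Subgroup.mem_normalizer_fintype
    intro w hw
    have h1 : (zpowers x₁ ⊔ zpowers y₁ : Subgroup (P : Subgroup G)) ≤
        ((P : Subgroup G).comap (MulAut.conj (g * c₀ * g⁻¹)).toMonoidHom).comap (P : Subgroup G).subtype := by
      rw [sup_le_iff, zpowers_le, zpowers_le]
      constructor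
      · show (g * c₀ * g⁻¹) * (g * x₀ * g⁻¹) * (g * c₀ * g⁻¹)⁻¹ ∈ (P : Subgroup G)
        rw [hcx₁]; exact hx₁P
      · show (g * c₀ * g⁻¹) * (g * y₀ * g⁻¹) * (g * c₀ * g⁻¹)⁻¹ ∈ (P : Subgroup G)
        rw [hcy₁]; exact (P : Subgroup G).pow_mem hy₁P k
    have h2 : (⟨w, hw⟩ : (P : Subgroup G)) ∈ (zpowers x₁ ⊔ zpowers y₁ : Subgroup (P : Subgroup G)) := by
      rw [htop]; exact mem_top _
    exact h1 h2
  let A : CommGroup (P : Subgroup G) := { (inferInstance : Group (P : Subgroup G)) with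
    mul_comm := fun a b => hcomm.is_comm.comm a b }
  have key := abs_three (V := (P : Subgroup G)) (E := E) (x := ⟨x, hx⟩) hN hV h7 hE ht (x₁ := x₁) (y₁ := y₁)
    (a₁ := ρ ⟨g * c₀ * g⁻¹, hcN⟩) hx₁1 ⟨_, rfl⟩ (Subtype.ext hcx₁) hy₁n (k := k) (Subtype.ext hcy₁) hk
    (fun h => hx1 (congrArg Subtype.val h))
  rw [← key, ← Subgroup.relIndex_subgroupOf (inf_le_left : N ⊓ centralizer ({x} : Set G) ≤ N)]
  have e1 : (centralizer ((P : Subgroup G) : Set G)).subgroupOf N = ρ.ker :=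
    ((P : Subgroup G).normalizerMonoidHom_ker).symm
  rw [e1, Subgroup.relIndex_ker]
  congr 1
  have e2 : (((N ⊓ centralizer ({x} : Set G)).subgroupOf N).map ρ : Subgroup (MulAut (P : Subgroup G))) =
      stE E ⟨x, hx⟩ := by
    ext a
    constructor
    · rintro ⟨n, hn, rfl⟩
      refine ⟨⟨n, rfl⟩, Subtype.ext ?_⟩
      rw [hρ]
      have h1 : (n : G) ∈ centralizer ({x} : Set G) := (mem_inf.1 (mem_subgroupOf.1 hn)).2
      have h2 := mem_centralizer_iff.1 h1 x rfl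
      show (n : G) * x * (n : G)⁻¹ = x
      rw [← h2, mul_inv_cancel_right]
    · rintro ⟨⟨n, rfl⟩, h1⟩
      refine ⟨n, mem_subgroupOf.2 (mem_inf.2 ⟨n.2, mem_centralizer_iff.2 fun z hz => ?_⟩), rfl⟩
      rw [Set.mem_singleton_iff.1 hz]
      have h2 := congrArg Subtype.val h1
      rw [hρ] at h2
      have h3 : (n : G) * x * (n : G)⁻¹ = x := h2
      rw [mul_inv_eq_iff_eq_mul] at h3
      exact h3.symm
  rw [e2]

end group

end Cfsg.Agent.H530.LB
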