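import Cfsg.Agent.H530.LB.Three
import Cfsg.Agent.H448.Lb.NoSix

/-!
# S4879, row `F₄(q)`: piece F3 (helper530)
-/

set_option autoImplicit false

open Subgroup

namespace Cfsg.Agent.H530.LB

universe u

theorem noSix : NoSix.{u} := fun _ _ _ hV h7 E hE h => Cfsg.Agent.H448.Lb.no_six hV h7 E hE h

/-- `H23.LB.F3`, without hypotheses -/
theorem f3 : ∀ (G : Type u) [Group G] [Finite G], Cfsg.Agent.H741.Lb.OneC 7 G → ∀ P : Sylow 7 G, Nat.card P = 7 ^ 2 →
    (∀ x ∈ (P : Subgroup G), x ^ 7 = 1) → Cfsg.Agent.H319.One.Loc 7 3 G → ∀ x ∈ (P : Subgroup G), x ≠ 1 →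
    (centralizer ((P : Subgroup G) : Set G)).relIndex
      (normalizer ((P : Subgroup G) : Set G) ⊓ centralizer ({x} : Set G)) = 3 :=
  fun _ _ _ hO P hP hexp hL _ hx hx1 => relIndex_three noSix hO P hP hexp hL hx hx1

end Cfsg.Agent.H530.LB
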